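import Mathlib.CategoryTheory.Localization.CalculusOfFractions
import Mathlib.CategoryTheory.Limits.Preserves.Finite
import Mathlib.CategoryTheory.FinCategory.Basic
import Mathlib.Data.Fintype.Sigma
import Mathlib.Data.Fintype.EquivFin
import Mathlib.Data.Fintype.OfMap

open CategoryTheory CategoryTheory.Limits

universe v u v' u'

namespace Groth.Agent.CatLoc45

variable {C : Type u} [Category.{v} C] {D : Type u'} [Category.{v'} D] (W : MorphismProperty C)
  (L : C ⥤ D) [L.IsLocalization W] [W.HasLeftCalculusOfFractions]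

include W in
lemma exists_frac {X Y : C} (g : L.obj X ⟶ L.obj Y) :
    ∃ (Y' : C) (f : X ⟶ Y') (s : Y ⟶ Y'), W s ∧ g ≫ L.map s = L.map f := by
  obtain ⟨φ, rfl⟩ := Localization.exists_leftFraction L W g
  exact ⟨φ.Y', φ.f, φ.s, φ.hs, φ.map_comp_map_s _ _⟩

lemma exists_square {X A B : C} (f : X ⟶ A) (s : X ⟶ B) (hs : W s) :
    ∃ (P : C) (a : A ⟶ P) (b : B ⟶ P), W a ∧ f ≫ a = s ≫ b :=
  let ⟨ψ, h⟩ := (MorphismProperty.RightFraction.mk s hs f).exists_leftFraction
  ⟨ψ.Y', ψ.s, ψ.f, ψ.hs, h⟩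

theorem exists_common_denominator {ι : Type*} [Finite ι] (X : ι → C) (Y : C)
    (g : ∀ i, L.obj (X i) ⟶ L.obj Y) :
    ∃ (Y' : C) (s : Y ⟶ Y') (_ : W s) (f : ∀ i, X i ⟶ Y'), ∀ i, g i ≫ L.map s = L.map (f i) := by
  classical
  cases nonempty_fintype ι
  suffices ∀ F : Finset ι, ∃ (Y' : C) (s : Y ⟶ Y') (_ : W s), ∀ i ∈ F,
      ∃ f : X i ⟶ Y', g i ≫ L.map s = L.map f by
    obtain ⟨Y', s, hs, h⟩ := this Finset.univ
    choose f hf using h
    exact ⟨Y', s, hs, fun i => f i (Finset.mem_univ i), fun i => hf i (Finset.mem_univ i)⟩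
  intro F
  induction F using Finset.induction_on with
  | empty => exact ⟨Y, 𝟙 Y, W.id_mem Y, by simp⟩
  | @insert j F _ ih =>
    obtain ⟨Y₁, s, hs, h⟩ := ih
    obtain ⟨Y₂, f₂, t, ht, hj⟩ := exists_frac W L (g j)
    obtain ⟨P, a, b, ha, e⟩ := exists_square W s t ht
    refine ⟨P, s ≫ a, W.comp_mem _ _ hs ha, fun i hi => ?_⟩
    rcases Finset.mem_insert.1 hi with rfl | hi
    · exact ⟨f₂ ≫ b, by rw [e, L.map_comp, ← Category.assoc, hj, ← L.map_comp]⟩
    · obtain ⟨f, hf⟩ := h i hi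
      exact ⟨f ≫ a, by rw [L.map_comp, ← Category.assoc, hf, ← L.map_comp]⟩

include L in
theorem exists_equalizing {ι : Type*} [Finite ι] (X : ι → C) (Y : C) (a b : ∀ i, X i ⟶ Y)
    (h : ∀ i, L.map (a i) = L.map (b i)) :
    ∃ (Y' : C) (s : Y ⟶ Y') (_ : W s), ∀ i, a i ≫ s = b i ≫ s := by
  classical
  cases nonempty_fintype ι
  suffices ∀ F : Finset ι, ∃ (Y' : C) (s : Y ⟶ Y') (_ : W s), ∀ i ∈ F, a i ≫ s = b i ≫ s by
    obtain ⟨Y', s, hs, h⟩ := this Finset.univ
    exact ⟨Y', s, hs, fun i => h i (Finset.mem_univ i)⟩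
  intro F
  induction F using Finset.induction_on with
  | empty => exact ⟨Y, 𝟙 Y, W.id_mem Y, by simp⟩
  | @insert j F _ ih =>
    obtain ⟨Y₁, s, hs, hF⟩ := ih
    obtain ⟨Y₂, t, ht, e⟩ := (MorphismProperty.map_eq_iff_postcomp L W (a j ≫ s) (b j ≫ s)).1
      (by rw [L.map_comp, L.map_comp, h j])
    refine ⟨Y₂, s ≫ t, W.comp_mem _ _ hs ht, fun i hi => ?_⟩
    rcases Finset.mem_insert.1 hi with rfl | hi
    · simpa using e
    · rw [← Category.assoc, hF i hi, Category.assoc]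

include W in
theorem preservesFiniteColimits : PreservesFiniteColimits L := by
  constructor
  intro J _ _
  refine ⟨fun {K} => ⟨fun {c} hc => ?_⟩⟩
  have := Localization.essSurj L W
  have : Finite J := @Finite.of_fintype _ FinCategory.fintypeObj
  have : Finite (Σ a b : J, a ⟶ b) := by
    cases nonempty_fintype J
    have : ∀ a b : J, Fintype (a ⟶ b) := FinCategory.fintypeHom
    exact Finite.of_fintype _
  have hinv := Localization.inverts L W
  have ext : ∀ {T : D} (a b : L.obj c.pt ⟶ T),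
      (∀ j, L.map (c.ι.app j) ≫ a = L.map (c.ι.app j) ≫ b) → a = b := by
    intro T a b h
    let e := L.objObjPreimageIso T
    rw [← cancel_mono e.inv]
    obtain ⟨Y, s, hs, f, hf⟩ := exists_common_denominator W L (fun _ : Bool => c.pt) (L.objPreimage T)
      (fun i => (cond i a b) ≫ e.inv)
    have hs' : IsIso (L.map s) := hinv s hs
    obtain ⟨Y', t, ht, he⟩ := exists_equalizing W L (fun j => K.obj j) Y
      (fun j => c.ι.app j ≫ f true) (fun j => c.ι.app j ≫ f false) (fun j => by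
        simp only [L.map_comp, ← hf, cond_true, cond_false, ← Category.assoc, h j])
    have ht' : IsIso (L.map t) := hinv t ht
    have h' : f true ≫ t = f false ≫ t := hc.hom_ext fun j => by simpa using he j
    rw [← cancel_mono (L.map s), ← cancel_mono (L.map t)]
    have h₁ := hf true
    have h₂ := hf false
    simp only [cond_true, cond_false] at h₁ h₂
    rw [h₁, h₂, ← L.map_comp, ← L.map_comp, h']
  have key : ∀ s : Cocone (K ⋙ L), ∃ l : L.obj c.pt ⟶ s.pt,
      ∀ j, L.map (c.ι.app j) ≫ l = s.ι.app j := by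
    intro s
    let e := L.objObjPreimageIso s.pt
    obtain ⟨Y, d, hd, f, hf⟩ := exists_common_denominator W L K.obj (L.objPreimage s.pt)
      (fun j => s.ι.app j ≫ e.inv)
    obtain ⟨Y', t, ht, he⟩ := exists_equalizing W L (fun m : Σ a b : J, a ⟶ b => K.obj m.1) Y
      (fun m => K.map m.2.2 ≫ f m.2.1) (fun m => f m.1) (fun m => by
        rw [L.map_comp, ← hf, ← hf]
        have hw : L.map (K.map m.2.2) ≫ s.ι.app m.2.1 = s.ι.app m.1 := s.w m.2.2
        simp only [Category.assoc, reassoc_of% hw])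
    let c' : Cocone K :=
      { pt := Y'
        ι :=
          { app := fun j => f j ≫ t
            naturality := fun a b g => by simpa using he ⟨a, b, g⟩ } }
    have : IsIso (L.map (d ≫ t)) := hinv _ (W.comp_mem _ _ hd ht)
    refine ⟨L.map (hc.desc c') ≫ inv (L.map (d ≫ t)) ≫ e.hom, fun j => ?_⟩
    rw [← Category.assoc, ← L.map_comp, hc.fac]
    change L.map (f j ≫ t) ≫ _ = _
    rw [L.map_comp, ← hf, Category.assoc, Category.assoc, ← L.map_comp_assoc]
    simp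
  exact ⟨{
    desc := fun s => (key s).choose
    fac := fun s j => (key s).choose_spec j
    uniq := fun s m hm => ext _ _ fun j => (hm j).trans ((key s).choose_spec j).symm }⟩

theorem isIso_map_iff [W.HasRightCalculusOfFractions] {X Y : C} (f : X ⟶ Y) :
    IsIso (L.map f) ↔ ∃ (Z Z' : C) (g : Y ⟶ Z) (h : Z' ⟶ X), W (f ≫ g) ∧ W (h ≫ f) := by
  constructor
  · intro _
    obtain ⟨X', a, s, hs, ha⟩ := exists_frac W L (inv (L.map f))
    obtain ⟨Z, t, ht, e⟩ := (MorphismProperty.map_eq_iff_postcomp L W (f ≫ a) s).1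
      (by rw [L.map_comp, ← ha, IsIso.hom_inv_id_assoc])
    obtain ⟨φ, hφ⟩ := Localization.exists_rightFraction L W (inv (L.map f))
    have hb : L.map φ.f = L.map φ.s ≫ inv (L.map f) := by
      rw [hφ, MorphismProperty.RightFraction.map_s_comp_map]
    obtain ⟨Z', t', ht', e'⟩ := (MorphismProperty.map_eq_iff_precomp L W (φ.f ≫ f) φ.s).1
      (by rw [L.map_comp, hb, Category.assoc, IsIso.inv_hom_id, Category.comp_id])
    refine ⟨Z, Z', a ≫ t, t' ≫ φ.f, ?_, ?_⟩
    · rw [← Category.assoc, e]; exact W.comp_mem _ _ hs ht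
    · rw [Category.assoc, e']; exact W.comp_mem _ _ ht' φ.hs
  · rintro ⟨Z, Z', g, h, hg, hh⟩
    have h₁ : IsIso (L.map f ≫ L.map g) := by
      rw [← L.map_comp]; exact Localization.inverts L W _ hg
    have h₂ : IsIso (L.map h ≫ L.map f) := by
      rw [← L.map_comp]; exact Localization.inverts L W _ hh
    have : Mono (L.map f) := mono_of_mono (L.map f) (L.map g)
    have : IsSplitEpi (L.map f) :=
      IsSplitEpi.mk' ⟨inv (L.map h ≫ L.map f) ≫ L.map h, by simp⟩
    exact isIso_of_mono_of_isSplitEpi _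

theorem exists_lift_commSq {X Y X' Y' : C} (f : X ⟶ Y) (f' : X' ⟶ Y') (a : L.obj X ⟶ L.obj X')
    (b : L.obj Y ⟶ L.obj Y') (w : L.map f ≫ b = a ≫ L.map f') :
    ∃ (X'' Y'' : C) (f'' : X'' ⟶ Y'') (g : X ⟶ X'') (h : Y ⟶ Y'') (s : X' ⟶ X'') (t : Y' ⟶ Y''),
      W s ∧ W t ∧ f ≫ h = g ≫ f'' ∧ f' ≫ t = s ≫ f'' ∧ L.map g = a ≫ L.map s ∧
        L.map h = b ≫ L.map t := by
  obtain ⟨X'', g, s, hs, ha⟩ := exists_frac W L a
  obtain ⟨Y₁, t₀, f₀, ht₀, e₀⟩ := exists_square W f' s hs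
  obtain ⟨Y₂, h₀, t₁, ht₁, hb⟩ := exists_frac W L b
  obtain ⟨Y₃, p, q, hp, e⟩ := exists_square W t₀ t₁ ht₁
  obtain ⟨Y₄, u, hu, e'⟩ := (MorphismProperty.map_eq_iff_postcomp L W (f ≫ h₀ ≫ q) (g ≫ f₀ ≫ p)).1
    (by
      simp only [L.map_comp, ← hb, ← ha, Category.assoc, reassoc_of% w]
      rw [← L.map_comp t₁, ← e, L.map_comp, ← L.map_comp_assoc f', e₀, L.map_comp, Category.assoc])
  refine ⟨X'', Y₄, f₀ ≫ p ≫ u, g, h₀ ≫ q ≫ u, s, t₀ ≫ p ≫ u, hs,
    W.comp_mem _ _ ht₀ (W.comp_mem _ _ hp hu), by simpa using e', by rw [reassoc_of% e₀], ha.symm,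
    ?_⟩
  rw [L.map_comp h₀, ← hb, reassoc_of% e, L.map_comp t₁, Category.assoc]

end Groth.Agent.CatLoc45
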